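import Mathlib
import Groth.Prelude.Def_TopMod

/-! Left inverses of maps of complete deduced topological modules. -/

set_option autoImplicit false
universe u v w x y z

namespace Groth.Agent.TopModSplitLib

/-- maps out of a module, killed by `I`, projective over `A ⧸ I`, lift. -/
theorem exists_lift {A : Type u} [CommRing A] (I : Ideal A) {P : Type x} [AddCommGroup P] [Module A P]
    [Module (A ⧸ I) P] [IsScalarTower A (A ⧸ I) P] [Module.Projective (A ⧸ I) P]
    {X : Type y} [AddCommGroup X] [Module A X] (hX : ∀ a ∈ I, ∀ m : X, a • m = 0)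
    {Y : Type z} [AddCommGroup Y] [Module A Y] (f : X →ₗ[A] Y) (hf : Function.Surjective f) (g : P →ₗ[A] Y) :
    ∃ h : P →ₗ[A] X, f ∘ₗ h = g := by
  classical
  obtain ⟨s, hs⟩ := Module.projective_def.1 (inferInstance : Module.Projective (A ⧸ I) P)
  choose xp hxp using fun p => hf (g p)
  let sp : P → (A ⧸ I →ₗ[A] X) := fun p => Submodule.liftQ I (LinearMap.toSpanSingleton A X (xp p))
    (fun a ha => by simpa using hX a ha (xp p))
  let F : (P →₀ A ⧸ I) →ₗ[A] X := Finsupp.lsum A sp
  refine ⟨F ∘ₗ s.restrictScalars A, LinearMap.ext fun p => ?_⟩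
  have key : ∀ c : P →₀ A ⧸ I, f (F c) = g (Finsupp.linearCombination (A ⧸ I) id c) := fun c => by
    induction c using Finsupp.induction_linear with
    | zero => simp
    | add a b ha hb => simp [map_add, ha, hb]
    | single q b =>
      obtain ⟨a, rfl⟩ := Ideal.Quotient.mk_surjective b
      rw [Finsupp.linearCombination_single, id_eq, show F (Finsupp.single q (Ideal.Quotient.mk I a)) = a • xp q by
        simp only [F, Finsupp.lsum_single, sp]
        rfl, map_smul, hxp, ← map_smul]
      congr 1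
      rw [← algebraMap_smul (A ⧸ I) a q]
      rfl
  show f (F (s p)) = g p
  rw [key, hs p]

variable {A : Type u} {M : Type v} {N : Type w} [CommRing A] [AddCommGroup M] [Module A M]
  [AddCommGroup N] [Module A N]

/-- compatible system from liftable inverses. -/
theorem exists_compatible (J : ℕ → Ideal A) (hJ : Antitone J) (u : M →ₗ[A] N)
    (v : ∀ n, N →ₗ[A] M ⧸ (J n • ⊤ : Submodule A M)) (hv : ∀ n x, v n (u x) = Submodule.Quotient.mk x)
    (hlift : ∀ n (d : N →ₗ[A] M ⧸ (J n • ⊤ : Submodule A M)), (∀ x, d (u x) = 0) →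
      ∃ h : N →ₗ[A] M ⧸ (J (n + 1) • ⊤ : Submodule A M), (∀ x, h (u x) = 0) ∧
        Submodule.factor (Submodule.smul_mono_left (hJ n.le_succ)) ∘ₗ h = d) :
    ∃ W : ∀ n, N →ₗ[A] M ⧸ (J n • ⊤ : Submodule A M), (∀ n x, W n (u x) = Submodule.Quotient.mk x) ∧
      ∀ n y, Submodule.factor (Submodule.smul_mono_left (hJ n.le_succ)) (W (n + 1) y) = W n y := by
  classical
  let S := fun n => {f : N →ₗ[A] M ⧸ (J n • ⊤ : Submodule A M) // ∀ x, f (u x) = Submodule.Quotient.mk x}
  have step : ∀ n (f : S n), ∃ g : S (n + 1),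
      ∀ y, Submodule.factor (Submodule.smul_mono_left (hJ n.le_succ)) (g.1 y) = f.1 y := by
    intro n f
    obtain ⟨h, hh, hπ⟩ := hlift n (f.1 - Submodule.factor (Submodule.smul_mono_left (hJ n.le_succ)) ∘ₗ v (n + 1))
      (fun x => by simp [f.2 x, hv])
    refine ⟨⟨v (n + 1) + h, fun x => by simp [hv, hh]⟩, fun y => ?_⟩
    have := LinearMap.congr_fun hπ y
    simp only [LinearMap.comp_apply, LinearMap.sub_apply] at this
    simp [LinearMap.add_apply, map_add, this]
  choose nxt hnxt using step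
  let W : ∀ n, S n := fun n => Nat.rec (⟨v 0, hv 0⟩ : S 0) (fun k f => nxt k f) n
  exact ⟨fun n => (W n).1, fun n => (W n).2, fun n y => hnxt n (W n) y⟩

variable [TopologicalSpace A] [UniformSpace M] [IsUniformAddGroup M] [CompleteSpace M] [T2Space M]

theorem exists_leftInverse (J : ℕ → Ideal A) (hJo : ∀ n, IsOpen (J n : Set A)) (hJ : Antitone J)
    (hb : (nhds (0 : A)).HasBasis (fun _ : ℕ => True) (fun n => (J n : Set A)))
    (hM : TopMod.IsDeduced A M) (u : M →ₗ[A] N)
    (W : ∀ n, N →ₗ[A] M ⧸ (J n • ⊤ : Submodule A M)) (hW : ∀ n x, W n (u x) = Submodule.Quotient.mk x)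
    (hc : ∀ n y, Submodule.factor (Submodule.smul_mono_left (hJ n.le_succ)) (W (n + 1) y) = W n y) :
    ∃ w : N →ₗ[A] M, ∀ x, w (u x) = x := by
  classical
  have hsmall : ∀ U ∈ nhds (0 : M), ∃ n, ((J n • ⊤ : Submodule A M) : Set M) ⊆ U := fun U hU => by
    obtain ⟨I, hI, hIU⟩ := hM.2.mem_iff.1 hU
    obtain ⟨n, -, hn⟩ := hb.mem_iff.1 (hI.mem_nhds I.zero_mem)
    exact ⟨n, (Set.Subset.trans (Submodule.smul_mono_left (N := (⊤ : Submodule A M)) hn) hIU)⟩
  have hopen : ∀ n, IsOpen ((J n • ⊤ : Submodule A M) : Set M) := fun n =>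
    AddSubgroup.isOpen_of_mem_nhds (J n • ⊤ : Submodule A M).toAddSubgroup
      (hM.2.mem_iff.2 ⟨J n, hJo n, subset_rfl⟩)
  have huniq : ∀ a b : M, (∀ n, (Submodule.Quotient.mk a : M ⧸ (J n • ⊤ : Submodule A M)) = Submodule.Quotient.mk b) →
      a = b := fun a b h => by
    by_contra hne
    obtain ⟨n, hn⟩ := hsmall {a - b}ᶜ (isOpen_compl_singleton.mem_nhds (by
      simpa [eq_comm, sub_eq_zero] using hne))
    exact hn ((Submodule.Quotient.eq _).1 (h n)) rfl
  have hex : ∀ y : N, ∃ m : M, ∀ n, (Submodule.Quotient.mk m : M ⧸ (J n • ⊤ : Submodule A M)) = W n y := by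
    intro y
    choose m hm using fun n => Submodule.Quotient.mk_surjective _ (W n y)
    have hmono : ∀ n j, n ≤ j → m j - m n ∈ (J n • ⊤ : Submodule A M) := fun n j hnj => by
      induction j, hnj using Nat.le_induction with
      | base => simp
      | succ j hj ih =>
        have h1 : m (j + 1) - m j ∈ (J j • ⊤ : Submodule A M) := by
          rw [← Submodule.Quotient.eq, hm j, ← hc j y, ← hm (j + 1)]
          rfl
        simpa using add_mem (Submodule.smul_mono_left (hJ hj) h1) ih
    have hC : CauchySeq m := by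
      rw [cauchySeq_iff]
      intro V hV
      rw [uniformity_eq_comap_nhds_zero M, Filter.mem_comap] at hV
      obtain ⟨U, hU, hUV⟩ := hV
      obtain ⟨n, hn⟩ := hsmall U hU
      refine ⟨n, fun k hk l hl => hUV (hn ?_)⟩
      show m l - m k ∈ (J n • ⊤ : Submodule A M)
      simpa using sub_mem (hmono n l hl) (hmono n k hk)
    obtain ⟨a, ha⟩ := cauchySeq_tendsto_of_complete hC
    refine ⟨a, fun n => ?_⟩
    rw [← hm n, Submodule.Quotient.eq]
    have hcl : IsClosed ((J n • ⊤ : Submodule A M) : Set M) :=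
      AddSubgroup.isClosed_of_isOpen (J n • ⊤ : Submodule A M).toAddSubgroup (hopen n)
    exact hcl.mem_of_tendsto (ha.sub_const (m n)) (Filter.eventually_atTop.2 ⟨n, fun j hj => hmono n j hj⟩)
  choose w hw using hex
  refine ⟨{ toFun := w, map_add' := fun a b => huniq _ _ fun n => ?_, map_smul' := fun c a => huniq _ _ fun n => ?_ },
    fun x => huniq _ _ fun n => ?_⟩
  · rw [Submodule.Quotient.mk_add, hw, hw, hw, map_add]
  · rw [RingHom.id_apply, Submodule.Quotient.mk_smul, hw, hw, map_smul]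
  · show (Submodule.Quotient.mk (w (u x)) : M ⧸ (J n • ⊤ : Submodule A M)) = _
    rw [hw, hW]

end Groth.Agent.TopModSplitLib
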