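import Mathlib
import Groth.Prelude.Def_TopMod
import Groth.Prelude.Def_LinTop
import Groth.Agent.TopModSplitLib.Basic

/-! Formal left invertibility through the quotients by open ideals. -/

set_option autoImplicit false
universe u v w

namespace Groth.Agent.TopModSplitLib

variable {A : Type u} {M : Type v} {N : Type w} [CommRing A] [AddCommGroup M] [Module A M]
  [AddCommGroup N] [Module A N]

theorem smul_mk_eq_zero (I : Ideal A) (m : M ⧸ (I • ⊤ : Submodule A M)) {a : A} (ha : a ∈ I) : a • m = 0 := by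
  obtain ⟨m, rfl⟩ := Submodule.Quotient.mk_surjective _ m
  rw [← Submodule.Quotient.mk_smul, Submodule.Quotient.mk_eq_zero]
  exact Submodule.smul_mem_smul ha trivial

variable [TopologicalSpace A] [TopologicalSpace M] [TopologicalSpace N]

theorem fli_iff (hM : TopMod.IsDeduced A M) (hN : TopMod.IsDeduced A N) (u : M →L[A] N) :
    TopMod.IsFormallyLeftInvertible u ↔
      ∀ J : Ideal A, IsOpen (J : Set A) →
        ∃ w : N →ₗ[A] M ⧸ (J • ⊤ : Submodule A M), ∀ x : M, w (u x) = Submodule.Quotient.mk x := by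
  haveI := hM.1
  haveI := hN.1
  constructor
  · intro hfli J hJ
    letI : TopologicalSpace (M ⧸ (J • ⊤ : Submodule A M)) := ⊥
    haveI : DiscreteTopology (M ⧸ (J • ⊤ : Submodule A M)) := ⟨rfl⟩
    have hc : Continuous (Submodule.mkQ (J • ⊤ : Submodule A M)) := by
      refine continuous_of_continuousAt_zero _ ?_
      rw [ContinuousAt, map_zero, nhds_discrete (M ⧸ (J • ⊤ : Submodule A M)), Filter.tendsto_pure]
      exact Filter.mem_of_superset (hM.2.mem_iff.2 ⟨J, hJ, subset_rfl⟩)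
        (fun x hx => (Submodule.Quotient.mk_eq_zero _).2 hx)
    obtain ⟨w, hw⟩ := hfli _ (⟨Submodule.mkQ (J • ⊤ : Submodule A M), hc⟩ : M →L[A] _)
    exact ⟨w.toLinearMap, hw⟩
  · intro h E _ _ _ _ v
    have hker : (v : M → E) ⁻¹' {0} ∈ nhds (0 : M) :=
      (isOpen_discrete _).preimage v.continuous |>.mem_nhds (by simp)
    obtain ⟨J, hJ, hJv⟩ := hM.2.mem_iff.1 hker
    obtain ⟨w, hw⟩ := h J hJ
    let v' : M ⧸ (J • ⊤ : Submodule A M) →ₗ[A] E := Submodule.liftQ _ v.toLinearMap fun x hx => hJv hx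
    have hc : Continuous (v' ∘ₗ w) := by
      refine continuous_of_continuousAt_zero _ ?_
      rw [ContinuousAt, map_zero, nhds_discrete E, Filter.tendsto_pure]
      refine Filter.mem_of_superset (hN.2.mem_iff.2 ⟨J, hJ, subset_rfl⟩) fun y hy => ?_
      refine (Submodule.smul_le.2 fun a ha z _ => ?_ : (J • ⊤ : Submodule A N) ≤ LinearMap.ker (v' ∘ₗ w)) hy
      rw [LinearMap.mem_ker, LinearMap.comp_apply, map_smul, smul_mk_eq_zero J _ ha, map_zero]
    refine ⟨⟨v' ∘ₗ w, hc⟩, fun x => ?_⟩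
    show v' (w (u x)) = v x
    rw [hw]; rfl

/-- an inverse modulo an ideal of definition gives inverses modulo every open ideal. -/
theorem exists_inverse_mod (𝔏 : Ideal A) (h𝔏 : LinTop.IsIdealOfDefinition A 𝔏)
    (J : Ideal A) (hJ : IsOpen (J : Set A)) [Module.Projective (A ⧸ J) (N ⧸ (J • (⊤ : Submodule A N)))]
    (u : M →ₗ[A] N) (w₀ : N →ₗ[A] M ⧸ (𝔏 • ⊤ : Submodule A M))
    (hw₀ : ∀ x, w₀ (u x) = Submodule.Quotient.mk x) :
    ∃ v : N →ₗ[A] M ⧸ (J • ⊤ : Submodule A M), ∀ x, v (u x) = Submodule.Quotient.mk x := by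
  classical
  let T := M ⧸ (J • ⊤ : Submodule A M)
  have hle : (𝔏 • ⊤ : Submodule A M) ≤ (𝔏 ⊔ J) • ⊤ := Submodule.smul_mono_left le_sup_left
  let w1 : N →ₗ[A] M ⧸ ((𝔏 ⊔ J) • ⊤ : Submodule A M) := Submodule.factor hle ∘ₗ w₀
  let w2 := Submodule.liftQ (J • ⊤ : Submodule A N) w1 (Submodule.smul_le.2 fun a ha c _ => by
    rw [LinearMap.mem_ker, map_smul]; exact smul_mk_eq_zero _ _ (Ideal.mem_sup_right ha))
  have hle2 : (J • ⊤ : Submodule A M) ≤ (𝔏 ⊔ J) • ⊤ := Submodule.smul_mono_left le_sup_right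
  obtain ⟨g, hg⟩ := exists_lift J (fun a ha m => smul_mk_eq_zero _ m ha)
    (Submodule.factor hle2) (Submodule.factor_surjective _) w2
  let G : N →ₗ[A] T := g ∘ₗ Submodule.mkQ _
  let e : Module.End A T := Submodule.liftQ _ (G ∘ₗ u) (Submodule.smul_le.2 fun a ha c _ => by
    rw [LinearMap.mem_ker, map_smul]; exact smul_mk_eq_zero _ _ ha)
  have he : ∀ t : T, (e - 1) t ∈ (𝔏 • ⊤ : Submodule A T) := by
    intro t
    obtain ⟨m, rfl⟩ := Submodule.Quotient.mk_surjective _ t
    obtain ⟨c, hc⟩ := Submodule.Quotient.mk_surjective _ ((e - 1) (Submodule.Quotient.mk m))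
    have h1 : Submodule.factor hle2 (G (u m)) = Submodule.Quotient.mk m := by
      show (Submodule.factor hle2 ∘ₗ g) (Submodule.Quotient.mk (u m)) = _
      rw [hg]
      show Submodule.factor hle (w₀ (u m)) = _
      rw [hw₀]; rfl
    have h2 : c ∈ ((𝔏 ⊔ J) • ⊤ : Submodule A M) := by
      rw [← Submodule.Quotient.mk_eq_zero]
      have h3 := congrArg (Submodule.factor hle2) hc
      rw [LinearMap.sub_apply, map_sub, Module.End.one_apply] at h3
      exact h3.trans (sub_eq_zero.2 h1)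
    rw [Submodule.sup_smul] at h2
    obtain ⟨l, hl, j, hj, rfl⟩ := Submodule.mem_sup.1 h2
    rw [← hc, Submodule.Quotient.mk_add, (Submodule.Quotient.mk_eq_zero _).2 hj, add_zero]
    have := Submodule.mem_map_of_mem (f := Submodule.mkQ (J • ⊤ : Submodule A M)) hl
    rw [Submodule.map_smul''] at this
    exact Submodule.smul_mono le_rfl le_top this
  obtain ⟨k, -, hk⟩ := h𝔏.2 _ (hJ.mem_nhds J.zero_mem)
  have hpow : ∀ j (t : T), ((e - 1) ^ j) t ∈ (𝔏 ^ j • ⊤ : Submodule A T) := by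
    intro j
    induction j with
    | zero => intro t; simp [Ideal.one_eq_top]
    | succ j ih =>
      intro t
      rw [pow_succ (e - 1) j, Module.End.mul_apply, pow_succ 𝔏 j]
      refine Submodule.smul_induction_on (he t) (fun a ha c _ => ?_) (fun a b ha hb => by rw [map_add]; exact add_mem ha hb)
      rw [map_smul, mul_comm (𝔏 ^ j) 𝔏, ← smul_eq_mul 𝔏, Submodule.smul_assoc]
      exact Submodule.smul_mem_smul ha (ih c)
  have hnil : (e - 1) ^ k = 0 := LinearMap.ext fun t => by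
    have := hpow k t
    have hz : (𝔏 ^ k • ⊤ : Submodule A T) = ⊥ :=
      le_bot_iff.1 (Submodule.smul_le.2 fun a ha c _ => by rw [Submodule.mem_bot]; exact smul_mk_eq_zero _ c (hk ha))
    rw [hz, Submodule.mem_bot] at this
    exact this
  have hu : IsUnit e := by
    have := IsNilpotent.isUnit_add_one (⟨k, hnil⟩ : IsNilpotent (e - 1))
    rwa [sub_add_cancel] at this
  obtain ⟨U, hU⟩ := hu
  refine ⟨(↑U⁻¹ : Module.End A T) ∘ₗ G, fun x => ?_⟩
  show (↑U⁻¹ : Module.End A T) (e (Submodule.Quotient.mk x)) = _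
  rw [← Module.End.mul_apply, ← hU, Units.inv_mul, Module.End.one_apply]

end Groth.Agent.TopModSplitLib
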